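import Cfsg.Agent.H792.OnThree.Affine
import Cfsg.Agent.H792.OnThree.Value
import Cfsg.Agent.H792.OnThree.Cent
import Cfsg.Agent.S0907
import Cfsg.Agent.H669.Basic
import Cfsg.Agent.SporadicA.M11CharSimple
import Cfsg.Agent.NotCT.Orders

/-!
# The principal 3-block of the O'Nan group does not have four members and rank two (helper792)

The degrees `D`, the values `C` at the elements of order 19 and the values `E` at the elements of order 31 of the members
satisfy: `C, E ∈ {0, 1, -1}`, `D ≡ C mod 19`, `D ≡ E mod 31`, `∑ D C ≡ ∑ D E ≡ 0 mod 81` and the vectors `D`, `C`, `E` are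
linearly dependent modulo the constants.
-/

set_option autoImplicit false

namespace Cfsg.Agent.H792.OnThree

open Cfsg Subgroup
open Cfsg.Agent.Characters.Core
open scoped ComplexConjugate

universe u

/-! ### arithmetic -/

theorem caseA {D1 D2 D3 C1 C2 C3 E1 E2 E3 : ℤ} (c1 : C1 = 0 ∨ C1 = 1 ∨ C1 = -1) (c2 : C2 = 0 ∨ C2 = 1 ∨ C2 = -1)
    (c3 : C3 = 0 ∨ C3 = 1 ∨ C3 = -1) (e1 : E1 = 0 ∨ E1 = 1 ∨ E1 = -1) (e2 : E2 = 0 ∨ E2 = 1 ∨ E2 = -1)
    (e3 : E3 = 0 ∨ E3 = 1 ∨ E3 = -1) (d1 : 2 ≤ D1) (d2 : 2 ≤ D2) (d3 : 2 ≤ D3)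
    (h1 : (9 : ℤ) ∣ 1 + D1 * C1 + D2 * C2 + D3 * C3) (h2 : (9 : ℤ) ∣ 1 + D1 * E1 + D2 * E2 + D3 * E3)
    (h12 : (E1 - C1) * (D2 - C2) = (E2 - C2) * (D1 - C1)) (h13 : (E1 - C1) * (D3 - C3) = (E3 - C3) * (D1 - C1))
    (h23 : (E2 - C2) * (D3 - C3) = (E3 - C3) * (D2 - C2)) (n1 : E1 ≠ C1) : False := by
  rcases c1 with rfl | rfl | rfl <;> rcases e1 with rfl | rfl | rfl <;> try exact n1 rfl
  all_goals rcases c2 with rfl | rfl | rfl <;> rcases e2 with rfl | rfl | rfl <;> try omega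
  all_goals rcases c3 with rfl | rfl | rfl <;> rcases e3 with rfl | rfl | rfl <;> omega

theorem arith {D1 D2 D3 C1 C2 C3 E1 E2 E3 : ℤ} (c1 : C1 = 0 ∨ C1 = 1 ∨ C1 = -1) (c2 : C2 = 0 ∨ C2 = 1 ∨ C2 = -1)
    (c3 : C3 = 0 ∨ C3 = 1 ∨ C3 = -1) (e1 : E1 = 0 ∨ E1 = 1 ∨ E1 = -1) (e2 : E2 = 0 ∨ E2 = 1 ∨ E2 = -1)
    (e3 : E3 = 0 ∨ E3 = 1 ∨ E3 = -1) (d1 : 2 ≤ D1) (d2 : 2 ≤ D2) (d3 : 2 ≤ D3)
    (h1 : (9 : ℤ) ∣ 1 + D1 * C1 + D2 * C2 + D3 * C3) (h2 : (9 : ℤ) ∣ 1 + D1 * E1 + D2 * E2 + D3 * E3)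
    (h12 : (E1 - C1) * (D2 - C2) = (E2 - C2) * (D1 - C1)) (h13 : (E1 - C1) * (D3 - C3) = (E3 - C3) * (D1 - C1))
    (h23 : (E2 - C2) * (D3 - C3) = (E3 - C3) * (D2 - C2))
    (t1 : E1 = C1 → C1 ≠ 0 → (3 : ℤ) ∣ D1) (t2 : E2 = C2 → C2 ≠ 0 → (3 : ℤ) ∣ D2)
    (t3 : E3 = C3 → C3 ≠ 0 → (3 : ℤ) ∣ D3) : False := by
  by_cases n1 : E1 = C1
  · have hD1 : D1 - C1 ≠ 0 := by omega
    have n2 : E2 = C2 := by
      rw [n1, sub_self, zero_mul] at h12
      rcases mul_eq_zero.1 h12.symm with h | h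
      · omega
      · exact absurd h hD1
    have n3 : E3 = C3 := by
      rw [n1, sub_self, zero_mul] at h13
      rcases mul_eq_zero.1 h13.symm with h | h
      · omega
      · exact absurd h hD1
    have hz : ∀ {D C : ℤ}, (C ≠ 0 → (3 : ℤ) ∣ D) → (3 : ℤ) ∣ D * C := by
      intro D C h
      by_cases hC : C = 0
      · rw [hC, mul_zero]; exact dvd_zero _
      · exact (h hC).mul_right _
    have a1 := hz (t1 n1)
    have a2 := hz (t2 n2)
    have a3 := hz (t3 n3)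
    omega
  · exact caseA c1 c2 c3 e1 e2 e3 d1 d2 d3 h1 h2 h12 h13 h23 n1

theorem divs : ∀ c ∈ H547.SelfCent.divl [(2, 9), (3, 4), (5, 1), (7, 3), (11, 1)],
    (c % 589 = 1 ∨ c % 589 = 588) → c = 1 ∨ c % 3 = 0 := by
  decide +kernel

theorem three_dvd {d : ℕ} {C : ℤ} (hd : d ∣ 460815505920) (h1 : d ≠ 1) (hC : C = 0 ∨ C = 1 ∨ C = -1) (hC0 : C ≠ 0)
    (h19 : (19 : ℤ) ∣ (d : ℤ) - C) (h31 : (31 : ℤ) ∣ (d : ℤ) - C) : (3 : ℤ) ∣ d := by
  have h589 : (589 : ℤ) ∣ (d : ℤ) - C := by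
    have h : IsCoprime (19 : ℤ) 31 := by
      rw [Int.isCoprime_iff_gcd_eq_one]; decide
    exact h.mul_dvd h19 h31
  have hmod : d % 589 = 1 ∨ d % 589 = 588 := by
    rcases hC with rfl | rfl | rfl
    · exact absurd rfl hC0
    · left; omega
    · right; omega
  have n19 : ¬ 19 ∣ d := by omega
  have n31 : ¬ 31 ∣ d := by omega
  have h2 : d ∣ 19 * (31 * 782369280) := by
    rw [show 19 * (31 * 782369280) = 460815505920 by norm_num]; exact hd
  have h3 := (Nat.Coprime.symm ((Nat.Prime.coprime_iff_not_dvd (by norm_num)).2 n19)).dvd_of_dvd_mul_left h2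
  have h4 := (Nat.Coprime.symm ((Nat.Prime.coprime_iff_not_dvd (by norm_num)).2 n31)).dvd_of_dvd_mul_left h3
  have hcl : d ∈ H547.SelfCent.divl [(2, 9), (3, 4), (5, 1), (7, 3), (11, 1)] := by
    refine H547.SelfCent.mem_divl _ d ?_ ?_
    · intro x hx
      simp only [List.mem_cons, List.not_mem_nil, or_false] at hx
      rcases hx with rfl | rfl | rfl | rfl | rfl <;> norm_num
    · have : ((([(2, 9), (3, 4), (5, 1), (7, 3), (11, 1)] : List (ℕ × ℕ)).map fun x => x.1 ^ x.2).prod : ℕ) =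
          782369280 := by
        decide +kernel
      rw [this]; exact h4
  rcases divs d hcl hmod with h5 | h5
  · exact absurd h5 h1
  · omega

/-! ### the congruence -/

variable {G : Type u} [Group G]

/-- **integral columns of the principal block at `p`-regular elements are orthogonal to the degrees modulo `|P|`** -/
theorem sum_dvd [Finite G] {p : ℕ} [hp : Fact p.Prime] {M : Ideal AlgInt} (hM : IsPModular p M) (P : Sylow p G)
    (s : Finset (IrrCharacter G)) (hs : (s : Set (IrrCharacter G)) = principalBlock M G) {x : G} (hx : ¬ p ∣ orderOf x)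
    (c : IrrCharacter G → ℤ) (hc : ∀ χ ∈ s, (χ : G → ℂ) x = c χ) :
    (Nat.card (P : Subgroup G) : ℤ) ∣ ∑ χ ∈ s, (charDegree (χ : G → ℂ) : ℤ) * c χ := by
  classical
  have := Fintype.ofFinite (P : Subgroup G)
  have h1 : ∀ χ : IrrCharacter G, ∃ n : ℕ, ∑ y : (P : Subgroup G), (χ : G → ℂ) y = (Nat.card (P : Subgroup G) : ℂ) * n :=
    fun χ => M22.BDataOfBlocks.exists_sum_eq (isIrr_isCharacter χ.2) (P : Subgroup G)
  choose n hn using h1
  have h2 : ∀ y : (P : Subgroup G), y ≠ 1 → ∑ χ ∈ s, (c χ : ℂ) * conj ((χ : G → ℂ) y) = 0 := by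
    intro y hy
    have hy' : p ∣ orderOf (y : G) := by
      obtain ⟨k, hk⟩ := (IsPGroup.iff_orderOf.1 P.2) y
      rw [Subgroup.orderOf_coe, hk]
      refine dvd_pow_self p ?_
      rintro rfl
      rw [pow_zero] at hk
      exact hy (orderOf_eq_one_iff.1 hk)
    have h3 := Cfsg.Agent.S0907.result p M hM (principalBlock M G) Blocks.PrincipalSection.isPBlock_principalBlock
      x y hx hy'
    rw [← hs, finsum_mem_coe_finset] at h3
    rw [← h3]
    exact Finset.sum_congr rfl fun χ hχ => by rw [hc χ hχ]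
  have h3 : ∑ y : (P : Subgroup G), ∑ χ ∈ s, (c χ : ℂ) * conj ((χ : G → ℂ) y) =
      ∑ χ ∈ s, (c χ : ℂ) * conj ((χ : G → ℂ) (1 : G)) := by
    rw [Finset.sum_eq_single (1 : (P : Subgroup G)) (fun y _ hy => h2 y hy)
      (fun h => absurd (Finset.mem_univ _) h)]
    rfl
  have h4 : ∑ y : (P : Subgroup G), ∑ χ ∈ s, (c χ : ℂ) * conj ((χ : G → ℂ) y) =
      ∑ χ ∈ s, (c χ : ℂ) * ((Nat.card (P : Subgroup G) : ℂ) * n χ) := by
    rw [Finset.sum_comm]
    refine Finset.sum_congr rfl fun χ _ => ?_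
    rw [← Finset.mul_sum, ← map_sum, hn χ, map_mul, Complex.conj_natCast, Complex.conj_natCast]
  rw [h3] at h4
  have h5 : ((∑ χ ∈ s, (charDegree (χ : G → ℂ) : ℤ) * c χ : ℤ) : ℂ) =
      (((Nat.card (P : Subgroup G) : ℤ) * ∑ χ ∈ s, c χ * n χ : ℤ) : ℂ) := by
    push_cast
    rw [Finset.mul_sum]
    have h6 : ∑ χ ∈ s, (charDegree (χ : G → ℂ) : ℂ) * (c χ : ℂ) = ∑ χ ∈ s, (c χ : ℂ) * conj ((χ : G → ℂ) (1 : G)) := by
      refine Finset.sum_congr rfl fun χ _ => ?_
      rw [Blocks.Basic.irr_one_eq_charDegree χ.2, Complex.conj_natCast, mul_comm]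
    rw [h6, h4]
    exact Finset.sum_congr rfl fun χ _ => by ring
  exact ⟨_, by exact_mod_cast h5⟩

/-! ### the theorem -/

theorem four_false [Finite G] [hsim : IsSimpleGroup G] (hna : ¬ ∀ a b : G, a * b = b * a) [h3 : Fact (Nat.Prime 3)]
    {M : Ideal AlgInt} (hM : IsPModular 3 M)
    (hN : Nat.card G = 460815505920) {x y : G} (hx : orderOf x = 19) (hy : orderOf y = 31)
    (hcx : Nat.card (centralizer ({x} : Set G)) = 19) (hcy : Nat.card (centralizer ({y} : Set G)) = 31)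
    (hl : blockRank 3 (principalBlock M G) = 2) (hk : Nat.card (principalBlock M G) = 4) : False := by
  classical
  have hMp := Blocks.Local.isPrime_of_isPModular hM
  have h19 : Fact (Nat.Prime 19) := ⟨by norm_num⟩
  have h31 : Fact (Nat.Prime 31) := ⟨by norm_num⟩
  have hfin : Finite (IrrCharacter G) := finite_irr
  have hx3 : ¬ 3 ∣ orderOf x := by rw [hx]; norm_num
  have hy3 : ¬ 3 ∣ orderOf y := by rw [hy]; norm_num
  -- values
  have hX : ∀ χ ∈ principalBlock M G, ∃ z : ℤ, (χ : G → ℂ) x = z ∧ (z = 0 ∨ z = 1 ∨ z = -1) ∧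
      (19 : ℤ) ∣ (charDegree (χ : G → ℂ) : ℤ) - z := by
    intro χ hχ
    obtain ⟨z, hz⟩ := exists_int Nat.prime_three hl hχ hx3
    have h := value (r := 19) (by norm_num) hx hcx (by rw [hN]; norm_num) hz
    refine ⟨z, ?_, h.1, h.2⟩
    have := hz 1 (Nat.coprime_one_left _)
    rwa [pow_one] at this
  have hY : ∀ χ ∈ principalBlock M G, ∃ z : ℤ, (χ : G → ℂ) y = z ∧ (z = 0 ∨ z = 1 ∨ z = -1) ∧
      (31 : ℤ) ∣ (charDegree (χ : G → ℂ) : ℤ) - z := by
    intro χ hχ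
    obtain ⟨z, hz⟩ := exists_int Nat.prime_three hl hχ hy3
    have h := value (r := 31) (by norm_num) hy hcy (by rw [hN]; norm_num) hz
    refine ⟨z, ?_, h.1, h.2⟩
    have := hz 1 (Nat.coprime_one_left _)
    rwa [pow_one] at this
  have hC : ∃ C : IrrCharacter G → ℤ, ∀ χ ∈ principalBlock M G, (χ : G → ℂ) x = C χ ∧ (C χ = 0 ∨ C χ = 1 ∨ C χ = -1) ∧
      (19 : ℤ) ∣ (charDegree (χ : G → ℂ) : ℤ) - C χ := by
    refine ⟨fun χ => if h : χ ∈ principalBlock M G then (hX χ h).choose else 0, fun χ hχ => ?_⟩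
    simp only [dif_pos hχ]
    exact (hX χ hχ).choose_spec
  have hE : ∃ C : IrrCharacter G → ℤ, ∀ χ ∈ principalBlock M G, (χ : G → ℂ) y = C χ ∧ (C χ = 0 ∨ C χ = 1 ∨ C χ = -1) ∧
      (31 : ℤ) ∣ (charDegree (χ : G → ℂ) : ℤ) - C χ := by
    refine ⟨fun χ => if h : χ ∈ principalBlock M G then (hY χ h).choose else 0, fun χ hχ => ?_⟩
    simp only [dif_pos hχ]
    exact (hY χ hχ).choose_spec
  obtain ⟨C, hC⟩ := hC
  obtain ⟨E, hE⟩ := hE
  -- the finset
  set s : Finset (IrrCharacter G) := (Set.toFinite (principalBlock M G)).toFinset with hsdef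
  have hs : (s : Set (IrrCharacter G)) = principalBlock M G := Set.Finite.coe_toFinset _
  have hmem : ∀ χ, χ ∈ s ↔ χ ∈ principalBlock M G := fun χ => Set.Finite.mem_toFinset _
  have hscard : s.card = 4 :=
    (Nat.card_eq_card_finite_toFinset (Set.toFinite (principalBlock M G))).symm.trans hk
  have htm : triv G ∈ s := (hmem _).2 triv_mem
  have her : (s.erase (triv G)).card = 3 := by rw [Finset.card_erase_of_mem htm, hscard]
  obtain ⟨a, b, c, hab, hac, hbc, habc⟩ := Finset.card_eq_three.1 her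
  have hsum : ∀ f : IrrCharacter G → ℤ, ∑ χ ∈ s, f χ = f (triv G) + f a + f b + f c := by
    intro f
    rw [← Finset.add_sum_erase s f htm, habc, Finset.sum_insert (by simp [hab, hac]), Finset.sum_insert (by simp [hbc]),
      Finset.sum_singleton]
    ring
  have hin : ∀ χ, χ = a ∨ χ = b ∨ χ = c → χ ∈ principalBlock M G ∧ χ ≠ triv G := by
    intro χ h
    have h1 : χ ∈ s.erase (triv G) := by rw [habc]; simpa using h
    exact ⟨(hmem _).1 (Finset.mem_of_mem_erase h1), Finset.ne_of_mem_erase h1⟩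
  have hD : ∀ χ, χ = a ∨ χ = b ∨ χ = c → 2 ≤ (charDegree (χ : G → ℂ) : ℤ) := by
    intro χ h
    have h1 := (hin χ h).2
    have h2 : (charDegree (χ : G → ℂ)) ∣ Nat.card G := H669.Basic.charDegree_dvd_card χ.2
    have h3 : charDegree (χ : G → ℂ) ≠ 0 := by
      intro h0
      rw [h0] at h2
      exact Nat.card_pos.ne' (Nat.eq_zero_of_zero_dvd h2)
    have h4 : charDegree (χ : G → ℂ) ≠ 1 := by
      intro h0
      apply h1
      apply Subtype.ext
      exact SporadicA.M11CharSimple.eq_one_of_degree_one hna χ.2 (by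
        rw [Blocks.Basic.irr_one_eq_charDegree χ.2, h0, Nat.cast_one])
    omega
  have htd : (charDegree (triv G : G → ℂ) : ℤ) = 1 := by
    have h1 := Blocks.Basic.irr_one_eq_charDegree (triv G).2
    rw [show ((triv G : IrrCharacter G).1 : G → ℂ) 1 = 1 from rfl] at h1
    exact_mod_cast h1.symm
  have htC : C (triv G) = 1 := by
    have h1 := (hC _ triv_mem).1
    rw [triv_apply] at h1
    exact_mod_cast h1.symm
  have htE : E (triv G) = 1 := by
    have h1 := (hE _ triv_mem).1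
    rw [triv_apply] at h1
    exact_mod_cast h1.symm
  have h9 : ∀ P : Sylow 3 G, (9 : ℤ) ∣ (Nat.card (P : Subgroup G) : ℤ) := by
    intro P
    have h1 : 3 ^ 2 ∣ Nat.card P := P.pow_dvd_card_of_pow_dvd_card (by rw [hN]; norm_num)
    have h2 : (9 : ℕ) ∣ Nat.card (P : Subgroup G) := by simpa using h1
    exact_mod_cast h2
  obtain ⟨P⟩ : Nonempty (Sylow 3 G) := inferInstance
  have s1 := (h9 P).trans (sum_dvd hM P s hs hx3 C fun χ hχ => (hC χ ((hmem χ).1 hχ)).1)
  have s2 := (h9 P).trans (sum_dvd hM P s hs hy3 E fun χ hχ => (hE χ ((hmem χ).1 hχ)).1)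
  rw [hsum, htd, htC] at s1
  rw [hsum, htd, htE] at s2
  have hrel : ∀ ψ θ : IrrCharacter G, ψ ∈ principalBlock M G → θ ∈ principalBlock M G →
      (E ψ - C ψ) * ((charDegree (θ : G → ℂ) : ℤ) - C θ) = (E θ - C θ) * ((charDegree (ψ : G → ℂ) : ℤ) - C ψ) := by
    intro ψ θ hψ hθ
    have h1 := rank_rel Nat.prime_three hl (a := (1 : G)) (b := x) (c := y) (one_reg Nat.prime_three) hx3 hy3 hψ hθ
    rw [(hC ψ hψ).1, (hE ψ hψ).1, (hC θ hθ).1, (hE θ hθ).1, Blocks.Basic.irr_one_eq_charDegree ψ.2,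
      Blocks.Basic.irr_one_eq_charDegree θ.2] at h1
    exact_mod_cast h1
  have ha := (hin a (Or.inl rfl)).1
  have hb := (hin b (Or.inr (Or.inl rfl))).1
  have hc := (hin c (Or.inr (Or.inr rfl))).1
  have ht : ∀ χ : IrrCharacter G, χ = a ∨ χ = b ∨ χ = c → E χ = C χ → C χ ≠ 0 → (3 : ℤ) ∣ (charDegree (χ : G → ℂ) : ℤ) := by
    intro χ h heq h0
    have hχ := (hin χ h).1
    refine three_dvd (C := C χ) (by rw [← hN]; exact H669.Basic.charDegree_dvd_card χ.2) ?_ (hC χ hχ).2.1 h0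
      (hC χ hχ).2.2 (by rw [← heq]; exact (hE χ hχ).2.2)
    have := hD χ h
    omega
  exact arith (hC a ha).2.1 (hC b hb).2.1 (hC c hc).2.1 (hE a ha).2.1 (hE b hb).2.1 (hE c hc).2.1
    (hD a (Or.inl rfl)) (hD b (Or.inr (Or.inl rfl))) (hD c (Or.inr (Or.inr rfl)))
    (by simpa using s1) (by simpa using s2) (hrel a b ha hb) (hrel a c ha hc) (hrel b c hb hc)
    (ht a (Or.inl rfl)) (ht b (Or.inr (Or.inl rfl))) (ht c (Or.inr (Or.inr rfl)))

/-- **T8 of S4615**: the principal 3-block of `O'N` does not have exactly four characters (with rank two) -/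
theorem on_three [Fact (Nat.Prime 3)] {S : Type u} [Group S] [Finite S] (h : Cfsg.Spor.IsoON S)
    {M : Ideal AlgInt} (hM : IsPModular 3 M)
    (hl : blockRank 3 (principalBlock M S) = 2) : Nat.card (principalBlock M S) ≠ 4 := by
  intro hk
  have hN : Nat.card S = 460815505920 := NotCT.Orders.on h
  obtain ⟨e⟩ := h
  have hsON : IsSimpleGroup Cfsg.Spor.ON := hs
  have hsim : IsSimpleGroup S := e.isSimpleGroup
  have h19 : Fact (Nat.Prime 19) := ⟨by norm_num⟩
  have h31 : Fact (Nat.Prime 31) := ⟨by norm_num⟩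
  have hfON := H153.Zeros.ON19.finite_ON
  obtain ⟨x, hx⟩ := exists_prime_orderOf_dvd_card' (G := S) 19 (by rw [hN]; norm_num)
  obtain ⟨y, hy⟩ := exists_prime_orderOf_dvd_card' (G := S) 31 (by rw [hN]; norm_num)
  have hcent : ∀ g : S, Nat.card (centralizer ({g} : Set S)) = Nat.card (centralizer ({e g} : Set Cfsg.Spor.ON)) := by
    intro g
    have h1 : (centralizer ({g} : Set S)).map e.toMonoidHom = centralizer ({e g} : Set Cfsg.Spor.ON) := by
      ext k
      constructor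
      · rintro ⟨w, hw, rfl⟩
        rw [mem_centralizer_singleton_iff]
        have := congrArg e (mem_centralizer_singleton_iff.1 hw)
        rwa [map_mul, map_mul] at this
      · intro hk
        refine ⟨e.symm k, mem_centralizer_singleton_iff.2 (e.injective ?_), by simp⟩
        rw [map_mul, map_mul, e.apply_symm_apply]
        exact mem_centralizer_singleton_iff.1 hk
    rw [← h1]
    exact Nat.card_congr (Subgroup.equivMapOfInjective (centralizer ({g} : Set S)) e.toMonoidHom e.injective).toEquiv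
  refine four_false (x := x) (y := y) ?_ hM hN hx hy ?_ ?_ hl hk
  · intro hcomm
    let _ : CommGroup S := { (inferInstance : Group S) with mul_comm := hcomm }
    have hp : (Nat.card S).Prime := IsSimpleGroup.prime_card
    rw [hN] at hp
    norm_num at hp
  · rw [hcent]
    exact H153.Zeros.ON19.card_cent (by rw [← hx]; exact MulEquiv.orderOf_eq e x)
  · rw [hcent]
    exact card_cent (by rw [← hy]; exact MulEquiv.orderOf_eq e y)

end Cfsg.Agent.H792.OnThree
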